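import Groth.Agent.AdicFS.SepBase
import Groth.Agent.FieldExtLib.Imperfection
import Groth.Agent.RegLocal.Basic
import Groth.Agent.MiracleFlatLib.Basic
import Groth.Agent.S2471

/-!
# Independence of cotangent vectors via absolute differentials
-/

set_option autoImplicit false
universe u

open IsLocalRing TensorProduct KaehlerDifferential

namespace Groth.Agent.GeomRegFlat

/-- A local ring of prime characteristic has derivations into any extension of its residue field dual to a
given independent family of cotangent vectors. -/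
theorem exists_dual_derivations (p : ℕ) [Fact p.Prime] (B : Type u) [CommRing B] [IsLocalRing B] [CharP B p]
    (K : Type u) [Field K] [Algebra (ResidueField B) K] [Algebra B K] [IsScalarTower B (ResidueField B) K]
    {d : ℕ} (x : Fin d → maximalIdeal B)
    (hx : LinearIndependent (ResidueField B) fun i => (maximalIdeal B).toCotangent (x i)) (j : Fin d) :
    ∃ δ : Derivation ℤ B K, ∀ i, δ (x i : B) = if i = j then 1 else 0 := by
  classical
  let κ := ResidueField B
  letI : Algebra (ZMod p) B := ZMod.algebra B p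
  haveI : Fact p.Prime := inferInstance
  haveI : Algebra.FormallySmooth (ZMod p) κ :=
    Groth.Agent.FieldExtLib.formallySmooth_field_of_perfectField (ZMod p) κ
  have hker : RingHom.ker (algebraMap B κ) = maximalIdeal B := by
    rw [ResidueField.algebraMap_eq, ker_residue]
  let π : (B ⧸ RingHom.ker (algebraMap B κ) ^ 2) →ₐ[ℤ] κ := (IsScalarTower.toAlgHom ℤ B κ).kerSquareLift
  let π' : (B ⧸ RingHom.ker (algebraMap B κ) ^ 2) →ₐ[ZMod p] κ :=
    Ideal.Quotient.liftₐ _ (IsScalarTower.toAlgHom (ZMod p) B κ) fun a ha => Ideal.pow_le_self two_ne_zero ha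
  have hππ : ∀ z, π' z = π z := fun z => by
    obtain ⟨b, rfl⟩ := Ideal.Quotient.mk_surjective z
    rfl
  have hπs : Function.Surjective π' := fun z => by
    obtain ⟨b, rfl⟩ := residue_surjective z
    exact ⟨Ideal.Quotient.mk _ b, rfl⟩
  have hnil : IsNilpotent (RingHom.ker (π' : (B ⧸ RingHom.ker (algebraMap B κ) ^ 2) →+* κ)) := by
    have hle : RingHom.ker (π' : (B ⧸ RingHom.ker (algebraMap B κ) ^ 2) →+* κ) ≤
        (RingHom.ker (algebraMap B κ)).map (Ideal.Quotient.mk _) := fun z hz => by
      obtain ⟨b, rfl⟩ := Ideal.Quotient.mk_surjective z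
      exact Ideal.mem_map_of_mem _ hz
    refine ⟨2, le_bot_iff.1 ((Ideal.pow_right_mono hle 2).trans ?_)⟩
    rw [← Ideal.map_pow, Ideal.map_quotient_self]
  let g₀ := Algebra.FormallySmooth.liftOfSurjective (AlgHom.id (ZMod p) κ) π' hπs hnil
  let g : κ →ₐ[ℤ] B ⧸ RingHom.ker (algebraMap B κ) ^ 2 := g₀.toRingHom.toIntAlgHom
  have hg : (IsScalarTower.toAlgHom ℤ B κ).kerSquareLift.comp g = AlgHom.id ℤ κ := AlgHom.ext fun z => by
    show π (g₀ z) = z
    rw [← hππ]
    exact Algebra.FormallySmooth.liftOfSurjective_apply _ _ _ _ z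
  have hsurjB : Function.Surjective (algebraMap B κ) := residue_surjective
  obtain ⟨l, hl⟩ := (retractionKerCotangentToTensorEquivSection (R := ℤ) hsurjB).symm ⟨g, hg⟩
  have hli : ∃ ψ : CotangentSpace B →ₗ[κ] κ, ∀ i, ψ ((maximalIdeal B).toCotangent (x i)) = if i = j then 1 else 0 := by
    obtain ⟨b, hb⟩ : ∃ ψ : CotangentSpace B →ₗ[κ] (Fin d →₀ κ),
        ψ ∘ₗ Finsupp.linearCombination κ (fun i => (maximalIdeal B).toCotangent (x i)) = LinearMap.id :=
      LinearMap.exists_leftInverse_of_injective _ (LinearMap.ker_eq_bot.2 hx.finsuppLinearCombination_injective)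
    refine ⟨Finsupp.lapply j ∘ₗ b, fun i => ?_⟩
    have := LinearMap.congr_fun hb (Finsupp.single i 1)
    rw [LinearMap.comp_apply, Finsupp.linearCombination_single, one_smul] at this
    rw [LinearMap.comp_apply, this, LinearMap.id_apply, Finsupp.lapply_apply, Finsupp.single_apply]
  obtain ⟨ψ, hψ⟩ := hli
  let c : (RingHom.ker (algebraMap B κ)).Cotangent →ₗ[B] CotangentSpace B :=
    Ideal.mapCotangent _ _ (AlgHom.id B B) hker.le
  let Λ : Ω[B⁄ℤ] →ₗ[B] K := (Algebra.linearMap κ K).restrictScalars B ∘ₗ ψ.restrictScalars B ∘ₗ c ∘ₗ l ∘ₗ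
    TensorProduct.mk B κ Ω[B⁄ℤ] 1
  refine ⟨Λ.compDer (D ℤ B), fun i => ?_⟩
  have hxi : (x i : B) ∈ RingHom.ker (algebraMap B κ) := hker.ge (x i).2
  have h1 := LinearMap.congr_fun hl ((RingHom.ker (algebraMap B κ)).toCotangent ⟨x i, hxi⟩)
  rw [LinearMap.comp_apply, kerCotangentToTensor_toCotangent, LinearMap.id_apply] at h1
  show algebraMap κ K (ψ (c (l ((1 : κ) ⊗ₜ[B] D ℤ B (x i : B))))) = _
  rw [h1]
  have h2 : c ((RingHom.ker (algebraMap B κ)).toCotangent ⟨x i, hxi⟩) = (maximalIdeal B).toCotangent (x i) := rfl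
  rw [h2, hψ]
  split_ifs <;> simp

/-- Derivations of `k` into the residue field extend to a geometrically regular local `k`-algebra. -/
theorem exists_extend_derivation {k : Type u} [Field k] (A : Type u) [CommRing A] [IsLocalRing A] [IsNoetherianRing A]
    [Algebra k A] (hA : CAlg.IsGeometricallyRegular k A) (d0 : Derivation ℤ k (ResidueField A)) :
    ∃ Δ : Derivation ℤ A (ResidueField A), ∀ a : k, Δ (algebraMap k A a) = d0 a := by
  let K := ResidueField A
  have hinj := (Groth.Agent.S2471.result.1 (Groth.Agent.AdicFS.adic_iff_geometricallyRegular.2 hA)).2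
  let M := (mapBaseChange ℤ k A).baseChange K
  obtain ⟨G, hG⟩ := LinearMap.exists_leftInverse_of_injective M (LinearMap.ker_eq_bot.2 hinj)
  let F1 : K ⊗[A] (A ⊗[k] Ω[k⁄ℤ]) →ₗ[K] K := (d0.liftKaehlerDifferential.liftBaseChange A).liftBaseChange K
  let Λ : Ω[A⁄ℤ] →ₗ[A] K := (F1 ∘ₗ G).restrictScalars A ∘ₗ TensorProduct.mk A K Ω[A⁄ℤ] 1
  refine ⟨Λ.compDer (D ℤ A), fun a => ?_⟩
  show F1 (G ((1 : K) ⊗ₜ[A] D ℤ A (algebraMap k A a))) = d0 a
  have h1 : M ((1 : K) ⊗ₜ[A] ((1 : A) ⊗ₜ[k] D ℤ k a)) = (1 : K) ⊗ₜ[A] D ℤ A (algebraMap k A a) := by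
    rw [LinearMap.baseChange_tmul, mapBaseChange_tmul, one_smul, map_D]
  rw [← h1, ← LinearMap.comp_apply G M, hG, LinearMap.id_apply, LinearMap.liftBaseChange_one_tmul,
    LinearMap.liftBaseChange_one_tmul, Derivation.liftKaehlerDifferential_comp_D]

/-- An independent family of cotangent vectors is part of a regular system of parameters. -/
theorem exists_generators_append (A : Type u) [CommRing A] [IsRegularLocalRing A] {c : ℕ} (w : Fin c → maximalIdeal A)
    (hw : LinearIndependent (ResidueField A) fun i => (maximalIdeal A).toCotangent (w i)) :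
    ∃ (e : ℕ) (z : Fin e → A), ringKrullDim A = ((c + e : ℕ) : WithBot ℕ∞) ∧
      Ideal.span (Set.range (Fin.append (fun i => (w i : A)) z)) = maximalIdeal A := by
  classical
  let K := ResidueField A
  let W : Submodule K (CotangentSpace A) := Submodule.span K (Set.range fun i => (maximalIdeal A).toCotangent (w i))
  obtain ⟨V, hV⟩ := W.exists_isCompl
  let b := Module.finBasis K V
  choose z hz using fun i => (maximalIdeal A).toCotangent_surjective (b i : CotangentSpace A)
  refine ⟨Module.finrank K V, fun i => (z i : A), ?_, ?_⟩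
  · rw [← (IsRegularLocalRing.iff_finrank_cotangentSpace A).1 inferInstance,
      ← Submodule.finrank_add_eq_of_isCompl hV, finrank_span_eq_card hw, Fintype.card_fin]
  · let S : Set (maximalIdeal A) := Set.range w ∪ Set.range z
    have htop : Submodule.span K ((maximalIdeal A).toCotangent '' S) = ⊤ := by
      rw [eq_top_iff, ← hV.sup_eq_top, sup_le_iff]
      refine ⟨Submodule.span_le.2 ?_, ?_⟩
      · rintro _ ⟨i, rfl⟩
        exact Submodule.subset_span ⟨w i, Or.inl ⟨i, rfl⟩, rfl⟩
      · intro v hv
        have h1 := Submodule.apply_mem_span_image_of_mem_span V.subtype (b.mem_span ⟨v, hv⟩)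
        rw [← Set.range_comp] at h1
        refine Submodule.span_mono ?_ h1
        rintro _ ⟨i, rfl⟩
        exact ⟨z i, Or.inr ⟨i, rfl⟩, hz i⟩
    have h2 := congrArg (Submodule.map (maximalIdeal A).subtype)
      ((CotangentSpace.span_image_eq_top_iff (R := A)).1 htop)
    rw [Submodule.map_span, Submodule.map_subtype_top] at h2
    refine Eq.trans ?_ h2
    show Ideal.span _ = Ideal.span _
    congr 1
    rw [Set.image_union, ← Set.range_comp, ← Set.range_comp]
    ext y
    simp only [Set.mem_range, Set.mem_union, Function.comp_apply, Submodule.coe_subtype]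
    constructor
    · rintro ⟨i, rfl⟩
      induction i using Fin.addCases with
      | left i => exact Or.inl ⟨i, by simp⟩
      | right i => exact Or.inr ⟨i, by simp⟩
    · rintro (⟨i, rfl⟩ | ⟨i, rfl⟩)
      · exact ⟨Fin.castAdd _ i, Fin.append_left _ _ i⟩
      · exact ⟨Fin.natAdd _ i, Fin.append_right _ _ i⟩

/-- Parameters which stay independent give flatness and a regular fibre. -/
theorem flat_and_regular_of_independent (B A : Type u) [CommRing B] [CommRing A] [IsRegularLocalRing B]
    [IsRegularLocalRing A] [Algebra B A] [IsLocalHom (algebraMap B A)] {d : ℕ} (hd : ringKrullDim B = d)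
    (x : Fin d → B) (hx : Ideal.span (Set.range x) = maximalIdeal B) (hxA : ∀ i, algebraMap B A (x i) ∈ maximalIdeal A)
    (hind : LinearIndependent (ResidueField A)
      fun i => (maximalIdeal A).toCotangent ⟨algebraMap B A (x i), hxA i⟩) :
    Module.Flat B A ∧ IsRegularLocalRing (A ⧸ (maximalIdeal B).map (algebraMap B A)) := by
  classical
  obtain ⟨e, z, he, hgen⟩ := exists_generators_append A (fun i => ⟨algebraMap B A (x i), hxA i⟩) hind
  refine ⟨?_, ?_⟩
  · have hm : maximalIdeal B = Ideal.ofList (List.ofFn x) := by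
      rw [← hx, Ideal.ofList]; congr 1; ext y; simp [List.mem_ofFn]
    have hB := (RegLocal.isRegular_of_generators B hd x hx).toIsWeaklyRegular
    have hA : RingTheory.Sequence.IsWeaklyRegular A (List.ofFn x) := by
      have h := (RegLocal.isRegular_of_generators A he _ hgen).toIsWeaklyRegular
      rw [List.ofFn_fin_append, RingTheory.Sequence.isWeaklyRegular_append_iff] at h
      rw [← RingTheory.Sequence.isWeaklyRegular_map_algebraMap_iff A A (List.ofFn x), List.map_ofFn]
      exact h.1
    exact MiracleFlatLib.flat_of_isWeaklyRegular d B A _ (List.length_ofFn) hm hB hA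
  · have h := (RegLocal.quot_span_image he _ hgen (Finset.univ.map (Fin.castAddEmb e : Fin d ↪ Fin (d + e)))).1
    haveI := h
    refine IsRegularLocalRing.of_ringEquiv
      (R := A ⧸ Ideal.span (Fin.append (fun i => algebraMap B A (x i)) z ''
        ((Finset.univ.map (Fin.castAddEmb e : Fin d ↪ Fin (d + e))) : Set (Fin (d + e)))))
      (Ideal.quotEquivOfEq ?_)
    rw [← hx, Ideal.map_span, Finset.coe_map, Finset.coe_univ, Set.image_univ, ← Set.range_comp, ← Set.range_comp]
    congr 1
    congr 1
    funext i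
    simp

end Groth.Agent.GeomRegFlat
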